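import Groth.Prelude.Def_RDer
import Groth.Agent.Lib.GrothSS.Acyclic
import Groth.Agent.Lib.DerCat.MapExtend
import Groth.Agent.Lib.Edge19.In

/-! # Derived functors after an exact functor sending injectives to acyclic objects, naturally -/

set_option autoImplicit false
set_option linter.all false
set_option backward.isDefEq.respectTransparency false
set_option backward.isDefEq.respectTransparency.types false

universe v₁ v₂ v₃ u₁ u₂ u₃

open CategoryTheory CategoryTheory.Limits HomologicalComplex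

noncomputable section

namespace GrothLib.PreExact25

section Homotopy

variable {A : Type u₁} [Category.{v₁} A] [Abelian A] {Y : A} {K L : CochainComplex A ℕ}
  (ι : (CochainComplex.single₀ A).obj Y ⟶ K) [QuasiIso ι] [hL : ∀ n, Injective (L.X n)]

/-- Two maps out of a resolution into a complex of injectives with the same augmentation are homotopic. -/
theorem nonempty_homotopy (f g : K ⟶ L) (h : ι.f 0 ≫ f.f 0 = ι.f 0 ≫ g.f 0) : Nonempty (Homotopy f g) := by
  suffices Nonempty (Homotopy (f - g) 0) from this.map Homotopy.equivSubZero.invFun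
  let φ := f - g
  have h0 : ι.f 0 ≫ φ.f 0 = 0 := by simp [φ, h]
  let z : K.X 1 ⟶ L.X 0 := (RDer.res_exact₀ K ι).descToInjective (φ.f 0) h0
  have hz : K.d 0 1 ≫ z = φ.f 0 := (RDer.res_exact₀ K ι).comp_descToInjective _ _
  have ho : K.d 0 1 ≫ (φ.f 1 - z ≫ L.d 0 1) = 0 := by
    rw [Preadditive.comp_sub, reassoc_of% hz, φ.comm 0 1, sub_self]
  let o : K.X 2 ⟶ L.X 1 := (RDer.res_exact_succ K ι 0).descToInjective (φ.f 1 - z ≫ L.d 0 1) ho
  have ho' : K.d 1 2 ≫ o = φ.f 1 - z ≫ L.d 0 1 := (RDer.res_exact_succ K ι 0).comp_descToInjective _ _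
  refine ⟨Homotopy.mkCoinductive φ z hz.symm o (by rw [ho']; abel) fun n p => ?_⟩
  obtain ⟨g₁, g₂, w⟩ := p
  have hs : K.d (n + 1) (n + 2) ≫ (φ.f (n + 2) - g₂ ≫ L.d (n + 1) (n + 2)) = 0 := by
    rw [Preadditive.comp_sub, ← φ.comm (n + 1) (n + 2), w, Preadditive.add_comp]
    simp
  refine ⟨(RDer.res_exact_succ K ι (n + 1)).descToInjective _ hs, ?_⟩
  rw [(RDer.res_exact_succ K ι (n + 1)).comp_descToInjective]
  abel

end Homotopy

variable {A : Type u₁} [Category.{v₁} A] [Abelian A] [HasInjectiveResolutions A]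
  {B : Type u₂} [Category.{v₂} B] [Abelian B] [HasInjectiveResolutions B]
  {C : Type u₃} [Category.{v₃} C] [Abelian C]
  (E : A ⥤ B) [E.Additive] [PreservesFiniteLimits E] [PreservesFiniteColimits E]
  (Ψ : B ⥤ C) [Ψ.Additive]

theorem mapAug_f_zero {D : Type u₁} [Category.{v₁} D] [Abelian D] (Φ : D ⥤ B) [Φ.Additive] {Y : D}
    {I : CochainComplex D ℕ} (ι : (CochainComplex.single₀ D).obj Y ⟶ I) :
    (RDer.mapAug Φ ι).f 0 = Φ.map (ι.f 0) := by
  simp [RDer.mapAug, HomologicalComplex.singleMapHomologicalComplex_inv_app_self]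

/-- Naturality of the comparison. -/
theorem precompExact_natural (q : ℕ) {X X' : A} (f : X ⟶ X') :
    ((E ⋙ Ψ).rightDerived q).map f ≫ RDer.precompExact E Ψ q X' =
      RDer.precompExact E Ψ q X ≫ (Ψ.rightDerived q).map (E.map f) := by
  let I := injectiveResolution X
  let I' := injectiveResolution X'
  let J := injectiveResolution (E.obj X)
  let J' := injectiveResolution (E.obj X')
  let α := InjectiveResolution.desc f I' I
  let β := InjectiveResolution.desc (E.map f) J' J
  have hα : I.ι.f 0 ≫ α.f 0 = f ≫ I'.ι.f 0 := InjectiveResolution.desc_commutes_zero f I' I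
  have hβ : J.ι.f 0 ≫ β.f 0 = E.map f ≫ J'.ι.f 0 := InjectiveResolution.desc_commutes_zero (E.map f) J' J
  let d := RDer.descToInjectives (𝟙 (E.obj X)) ((E.mapHomologicalComplex _).obj I.cocomplex)
    (RDer.mapAug E I.ι) J.cocomplex J.ι
  let d' := RDer.descToInjectives (𝟙 (E.obj X')) ((E.mapHomologicalComplex _).obj I'.cocomplex)
    (RDer.mapAug E I'.ι) J'.cocomplex J'.ι
  obtain ⟨H⟩ := nonempty_homotopy (RDer.mapAug E I.ι) ((E.mapHomologicalComplex _).map α ≫ d') (d ≫ β) (by
    have e : (RDer.mapAug E I.ι).f 0 ≫ d.f 0 = J.ι.f 0 :=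
      (RDer.ι_descToInjectives_f_zero _ _ _ _ _).trans (Category.id_comp _)
    have e' : (RDer.mapAug E I'.ι).f 0 ≫ d'.f 0 = J'.ι.f 0 :=
      (RDer.ι_descToInjectives_f_zero _ _ _ _ _).trans (Category.id_comp _)
    have lhs : (RDer.mapAug E I.ι).f 0 ≫ (E.map (α.f 0) ≫ d'.f 0) = E.map f ≫ J'.ι.f 0 := by
      rw [← e', mapAug_f_zero, mapAug_f_zero]
      exact ((Category.assoc _ _ _).symm.trans (congrArg (· ≫ d'.f 0)
        (((E.map_comp _ _).symm.trans (congrArg E.map hα)).trans (E.map_comp _ _)))).trans (Category.assoc _ _ _)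
    exact lhs.trans (hβ.symm.trans ((congrArg (· ≫ β.f 0) e).symm.trans (Category.assoc _ _ _))))
  have key := (Ψ.mapHomotopy H).homologyMap_eq q
  simp only [Functor.map_comp, HomologicalComplex.homologyMap_comp] at key
  have h₁ := InjectiveResolution.isoRightDerivedObj_hom_naturality f I I' α hα (E ⋙ Ψ) q
  have h₂ := InjectiveResolution.isoRightDerivedObj_inv_naturality (E.map f) J J' β hβ Ψ q
  dsimp only [RDer.precompExact]
  rw [reassoc_of% h₁, Category.assoc, Category.assoc, h₂]
  congr 1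
  simp only [← Category.assoc]
  congr 1

variable [PreservesFiniteLimits Ψ]

theorem isIso_precompExact [EnoughInjectives A] [EnoughInjectives B]
    (h : ∀ J : A, Injective J → GrothSS.IsAcyclicObj Ψ (E.obj J)) (q : ℕ) (X : A) :
    IsIso (RDer.precompExact E Ψ q X) := by
  let I := injectiveResolution X
  let J := injectiveResolution (E.obj X)
  have hE : ∀ k : ℕ, 0 < k → IsZero ((E.rightDerived k).obj X) := fun k hk => by
    have := Functor.preservesHomologyOfExact E
    refine IsZero.of_iso ?_ (I.isoRightDerivedObj E k)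
    rw [HomologicalComplex.homologyFunctor_obj, ← HomologicalComplex.exactAt_iff_isZero_homology]
    obtain ⟨k, rfl⟩ := Nat.exists_eq_succ_of_ne_zero hk.ne'
    exact (I.cocomplex_exactAt_succ k).map E
  have := Edge19.quasiIso_mapAug E X hE
  let φ : (E.mapHomologicalComplex _).obj I.cocomplex ⟶ J.cocomplex :=
    RDer.descToInjectives (𝟙 (E.obj X)) _ (RDer.mapAug E I.ι) J.cocomplex J.ι
  have hc : RDer.mapAug E I.ι ≫ φ = J.ι := by
    refine HomologicalComplex.from_single_hom_ext ?_
    exact (RDer.ι_descToInjectives_f_zero _ _ _ _ _).trans (Category.id_comp _)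
  have : QuasiIso (RDer.mapAug E I.ι ≫ φ) := by rw [hc]; infer_instance
  have : QuasiIso φ := quasiIso_of_comp_left (RDer.mapAug E I.ι) φ
  let e := ComplexShape.embeddingUpNat
  let φ' := HomologicalComplex.extendMap φ e
  have : QuasiIso φ' := (HomologicalComplex.quasiIso_extendMap_iff φ e).2 inferInstance
  have hz : ∀ (K : CochainComplex B ℕ), (∀ n, GrothSS.IsAcyclicObj Ψ (K.X n)) →
      ∀ i : ℤ, GrothSS.IsAcyclicObj Ψ ((K.extend e).X i) := by
    intro K hK i
    by_cases hi : 0 ≤ i
    · exact GrothSS.isAcyclicObj_of_iso Ψ (K.extendXIso e (i := i.toNat) (by simp [e]; omega)).symm (hK _)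
    · exact GrothSS.isAcyclicObj_of_isZero Ψ (K.isZero_extend_X e i (fun k hk => by simp [e] at hk; omega))
  have hq : QuasiIso ((Ψ.mapHomologicalComplex (ComplexShape.up ℤ)).map φ') :=
    GrothSS.quasiIso_map Ψ φ' 0 (hz _ fun n => h _ (I.injective n))
      (hz _ fun n => have := J.injective n; GrothSS.isAcyclicObj_of_injective Ψ _)
  have sq : (Ψ.mapHomologicalComplex (ComplexShape.up ℤ)).map φ' ≫ (DerTrunc.mapExtendIso Ψ J.cocomplex).hom =
      (DerTrunc.mapExtendIso Ψ ((E.mapHomologicalComplex _).obj I.cocomplex)).hom ≫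
        HomologicalComplex.extendMap ((Ψ.mapHomologicalComplex (ComplexShape.up ℕ)).map φ) e := by
    ext n
    by_cases hn : 0 ≤ n
    · simp only [comp_f, DerTrunc.mapExtendIso, Hom.isoOfComponents_hom_f, dif_pos hn,
        Functor.mapHomologicalComplex_map_f, φ']
      rw [HomologicalComplex.extendMap_f φ e (i := n.toNat) (i' := n) (by simp [e]; omega),
        HomologicalComplex.extendMap_f ((Ψ.mapHomologicalComplex (ComplexShape.up ℕ)).map φ) e
          (i := n.toNat) (i' := n) (by simp [e]; omega)]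
      simp only [e, Functor.map_comp, Category.assoc, Iso.trans_hom, Functor.mapIso_hom, Iso.symm_hom, Iso.inv_hom_id_assoc, Iso.map_inv_hom_id_assoc, Functor.mapHomologicalComplex_map_f]
    · exact ((HomologicalComplex.isZero_extend_X _ e n (fun k hk => by simp [e] at hk; omega))).eq_of_tgt _ _
  have : QuasiIso (HomologicalComplex.extendMap ((Ψ.mapHomologicalComplex (ComplexShape.up ℕ)).map φ) e) := by
    have : QuasiIso ((DerTrunc.mapExtendIso Ψ ((E.mapHomologicalComplex _).obj I.cocomplex)).hom ≫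
        HomologicalComplex.extendMap ((Ψ.mapHomologicalComplex (ComplexShape.up ℕ)).map φ) e) := by
      rw [← sq]; infer_instance
    exact quasiIso_of_comp_left (DerTrunc.mapExtendIso Ψ _).hom _
  have : QuasiIso ((Ψ.mapHomologicalComplex (ComplexShape.up ℕ)).map φ) :=
    (HomologicalComplex.quasiIso_extendMap_iff _ e).1 inferInstance
  have : IsIso ((HomologicalComplex.homologyFunctor C _ q).map ((Ψ.mapHomologicalComplex _).map φ)) :=
    inferInstanceAs (IsIso (HomologicalComplex.homologyMap ((Ψ.mapHomologicalComplex _).map φ) q))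
  dsimp only [RDer.precompExact]
  infer_instance

/-- `R^q(Ψ ∘ E) = R^qΨ ∘ E`. -/
def preExactIso [EnoughInjectives A] [EnoughInjectives B]
    (h : ∀ J : A, Injective J → GrothSS.IsAcyclicObj Ψ (E.obj J)) (q : ℕ) :
    (E ⋙ Ψ).rightDerived q ≅ E ⋙ Ψ.rightDerived q :=
  NatIso.ofComponents (fun X => haveI := isIso_precompExact E Ψ h q X; asIso (RDer.precompExact E Ψ q X))
    (fun f => precompExact_natural E Ψ q f)

end GrothLib.PreExact25
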